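import Cfsg.Agent.PRatExt.Basic
import Cfsg.Agent.S4937
import Cfsg.Agent.S0867
import Cfsg.Agent.S0888
import Cfsg.Agent.BlkChar.PPrimeConstituent

/-!
# `p`-rational extensions in the principal block across `N * C_G(Q)`
-/

set_option autoImplicit false
set_option linter.style.haveILetI false
set_option maxHeartbeats 1600000

open Cfsg
open Cfsg.Agent.Block Cfsg.Agent.Brauer Cfsg.Agent.Brauer.PrincipalRes

namespace Cfsg.Agent.PRatExt

universe u

variable {G : Type u} [Group G] [Finite G] {p : ℕ}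

theorem centralizer_pow_eq {g : G} {j : ℕ} (hj : j.Coprime (orderOf g)) :
    Subgroup.centralizer ({g ^ j} : Set G) = Subgroup.centralizer ({g} : Set G) := by
  obtain ⟨i, hi⟩ := exists_pow_eq_self_of_coprime hj
  ext c
  simp only [Subgroup.mem_centralizer_singleton_iff]
  constructor
  · intro h
    have h' : Commute c (g ^ j) := h
    have h2 := h'.pow_right i
    rw [hi] at h2
    exact h2
  · intro h
    exact (Commute.pow_right (h : Commute c g) j).eq

/-- `N C_G(Q)` is normal for a Sylow subgroup `Q` of the normal subgroup `N`. -/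
theorem normal_sup_centralizer [Fact p.Prime] (N : Subgroup G) [N.Normal] (Q : Sylow p N) :
    (N ⊔ Subgroup.centralizer (((Q : Subgroup N).map N.subtype : Subgroup G) : Set G)).Normal := by
  rw [← Subgroup.normalizer_eq_top_iff, eq_top_iff, ← Sylow.normalizer_sup_eq_top Q]
  refine sup_le (fun g hg => ?_) (le_sup_left.trans Subgroup.le_normalizer)
  rw [Subgroup.mem_normalizer_iff_map_conj_eq, Subgroup.map_sup]
  congr 1
  · exact Subgroup.mem_normalizer_iff_map_conj_eq.1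
      (by rw [Subgroup.normalizer_eq_top_iff.2 ‹N.Normal›]; trivial)
  · refine Subgroup.mem_normalizer_iff_map_conj_eq.1 (Subgroup.mem_normalizer_iff.2 fun c => ?_)
    simp only [SetLike.mem_coe, Subgroup.mem_centralizer_iff]
    constructor
    · intro h x hx
      have hx' : g⁻¹ * x * g ∈ ((Q : Subgroup N).map N.subtype : Subgroup G) :=
        ((Subgroup.mem_normalizer_iff''.1 hg) x).1 hx
      have := congrArg (fun y => g * y * g⁻¹) (h _ hx')
      simpa [mul_assoc] using this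
    · intro h x hx
      have hx' : g * x * g⁻¹ ∈ ((Q : Subgroup N).map N.subtype : Subgroup G) :=
        (Subgroup.mem_normalizer_iff.1 hg x).1 hx
      have := congrArg (fun y => g⁻¹ * y * g) (h _ hx')
      simpa [mul_assoc] using this

/-- The main theorem. -/
theorem exists_extension [hp : Fact p.Prime] (hp2 : p ≠ 2) {M : Ideal AlgInt} (hM : IsPModular p M)
    (N : Subgroup G) [N.Normal] (θ : IrrCharacter N)
    (hinv : ∀ g : G, ∀ n n' : N, (n' : G) = g * (n : G) * g⁻¹ →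
      (θ : N → ℂ) n' = (θ : N → ℂ) n)
    (hdeg : ¬ p ∣ charDegree (θ : N → ℂ)) {r : ℕ} (hpr : ¬ p ∣ r)
    (hval : ∀ n : N, (θ : N → ℂ) n ∈
      IntermediateField.adjoin ℚ ({Complex.exp (2 * Real.pi * Complex.I / r)} : Set ℂ))
    (hB : θ ∈ principalBlock M N) (Q : Sylow p N) {a : ℕ}
    (ha : (N ⊔ Subgroup.centralizer
      (((Q : Subgroup N).map N.subtype : Subgroup G) : Set G)).index = p ^ a) :
    ∃ χ : IrrCharacter G, χ ∈ principalBlock M G ∧
      (∃ n : ℕ, ¬ p ∣ n ∧ ∀ g : G, (χ : G → ℂ) g ∈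
        IntermediateField.adjoin ℚ ({Complex.exp (2 * Real.pi * Complex.I / n)} : Set ℂ)) ∧
      ∀ n : N, (χ : G → ℂ) n = (θ : N → ℂ) n := by
  classical
  letI := Fintype.ofFinite G
  letI := Fintype.ofFinite N
  haveI : M.IsPrime := hM.2.1.isPrime
  have hp' : p.Prime := hp.out
  set M0 := N ⊔ Subgroup.centralizer (((Q : Subgroup N).map N.subtype : Subgroup G) : Set G) with hM0
  haveI : M0.Normal := normal_sup_centralizer N Q
  -- covering
  have hcover : ∀ L : Subgroup G, N ≤ L → ¬ p ∣ N.relIndex L → Cover p (N.subgroupOf L) := by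
    intro L hNL hidx
    refine ⟨hidx, fun g => ?_⟩
    have h1 : ((g : G) : G ⧸ M0) ^ N.relIndex L = 1 := by
      rw [← QuotientGroup.mk_pow, QuotientGroup.eq_one_iff]
      have := Subgroup.pow_index_mem (N.subgroupOf L) g
      rw [Subgroup.mem_subgroupOf, Subgroup.coe_pow] at this
      exact Subgroup.mem_sup_left this
    have h2 : ((g : G) : G ⧸ M0) ^ p ^ a = 1 := by
      rw [← QuotientGroup.mk_pow, QuotientGroup.eq_one_iff, ← ha]
      exact Subgroup.pow_index_mem M0 _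
    have hg : (g : G) ∈ M0 := by
      rw [← QuotientGroup.eq_one_iff, ← pow_one ((g : G) : G ⧸ M0),
        ← show Nat.gcd (N.relIndex L) (p ^ a) = 1 from
          ((hp'.coprime_iff_not_dvd.2 hidx).symm.pow_right a)]
      exact (pow_gcd_eq_one).2 ⟨h1, h2⟩
    obtain ⟨n, hn, c, hc, hgc⟩ := Subgroup.mem_sup_of_normal_left.1 hg
    refine ⟨⟨n⁻¹, hNL (inv_mem hn)⟩, inv_mem hn, fun hd => ?_⟩
    have hle : ((Q : Subgroup ↥N).map N.subtype).subgroupOf L ≤
        Subgroup.centralizer ({(⟨n⁻¹, hNL (inv_mem hn)⟩ : L) * g} : Set L) := by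
      intro x hx
      rw [Subgroup.mem_centralizer_singleton_iff]
      refine Subtype.ext ?_
      show (x : G) * (n⁻¹ * (g : G)) = n⁻¹ * (g : G) * x
      rw [← hgc, inv_mul_cancel_left]
      exact Subgroup.mem_centralizer_iff.1 hc x hx
    have h1 := hd.trans (Subgroup.index_dvd_of_le hle)
    change p ∣ ((Q : Subgroup ↥N).map N.subtype).relIndex L at h1
    rw [← Subgroup.relIndex_mul_relIndex _ N L (Subgroup.map_subtype_le _) hNL,
      Subgroup.relIndex, Subgroup.subgroupOf,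
      Subgroup.comap_map_eq_self_of_injective N.subtype_injective] at h1
    rcases hp'.dvd_mul.1 h1 with h | h
    · exact Q.not_dvd_index (by simpa using h)
    · exact hidx h
  -- some extension
  obtain ⟨ψ, hψi, hψ⟩ : ∃ ψ : G → ℂ, IsIrrCharacter G ψ ∧ ∀ n : N, ψ n = (θ : N → ℂ) n := by
    refine Cfsg.Agent.S0888.result N (θ : N → ℂ) θ.2 (fun g n => hinv g n _ rfl) fun q hq => ?_
    haveI : Fact q.Prime := ⟨hq⟩
    obtain ⟨R⟩ : Nonempty (Sylow q G) := inferInstance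
    have hrel : ∃ k, N.relIndex (N ⊔ (R : Subgroup G)) = q ^ k := by
      have h := Subgroup.relIndex_ker (f := QuotientGroup.mk' N) (K := N ⊔ (R : Subgroup G))
      rw [QuotientGroup.ker_mk'] at h
      rw [h, Subgroup.map_sup, QuotientGroup.map_mk'_self, bot_sup_eq]
      exact (R.isPGroup'.map _).exists_card_eq
    refine ⟨N ⊔ (R : Subgroup G), le_sup_left, ?_⟩
    suffices h : ∃ η : ↥(N ⊔ (R : Subgroup G)) → ℂ, IsIrrCharacter _ η ∧
        ∀ n : N, η ⟨n, Subgroup.mem_sup_left n.2⟩ = (θ : N → ℂ) n by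
      obtain ⟨η, hη, hηn⟩ := h
      exact ⟨η, ((hq.coprime_iff_not_dvd.2 fun hd =>
        R.not_dvd_index (hd.trans (Subgroup.index_dvd_of_le le_sup_right)))).symm, hrel, hη, hηn⟩
    obtain ⟨k, hk⟩ := hrel
    set P := N ⊔ (R : Subgroup G) with hP
    have hNP : N ≤ P := le_sup_left
    haveI := Fintype.ofFinite P
    haveI := Fintype.ofFinite (N.subgroupOf P)
    obtain ⟨θ', hθ'⟩ : ∃ θ', θ' = irrComp (Subgroup.subgroupOfEquivOfLe hNP) θ := ⟨_, rfl⟩
    by_cases hqp : q = p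
    · subst hqp
      have hd : (θ' : N.subgroupOf P → ℂ) 1 = (charDegree (θ : N → ℂ) : ℂ) := by
        rw [hθ', coe_irrComp, Function.comp_apply, map_one]
        exact BlkChar.isCharacter_one_eq_charDegree (Char.isCharacter_of_irr θ.2)
      obtain ⟨χ, ⟨hχ, hres, -⟩, -⟩ := Cfsg.Agent.S0867.result (N.subgroupOf P)
        (θ' : N.subgroupOf P → ℂ) θ'.2 (fun g n => by
          rw [hθ', coe_irrComp]
          exact hinv (g : G) _ _ rfl) _ hd (by
          rw [show (N.subgroupOf P).index = q ^ k from hk]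
          refine Nat.Coprime.pow_left k (Nat.Coprime.mul_right ?_ (hp'.coprime_iff_not_dvd.2 hdeg))
          refine hp'.coprime_iff_not_dvd.2 (not_dvd_detOrder hp' hp2
            (Char.isCharacter_of_irr θ'.2) hpr fun n => ?_)
          rw [hθ', coe_irrComp]
          exact hval _)
      refine ⟨χ, hχ, fun n => ?_⟩
      rw [show (⟨n, Subgroup.mem_sup_left n.2⟩ : P) =
        ((⟨⟨n, hNP n.2⟩, n.2⟩ : N.subgroupOf P) : P) from rfl, hres, hθ']
      rfl
    · have hndvd : ¬ p ∣ N.relIndex P := by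
        rw [hk]
        exact fun hd => hqp ((Nat.prime_dvd_prime_iff_eq hp' hq).1 (hp'.dvd_of_dvd_pow hd)).symm
      obtain ⟨ξ, -, hres⟩ := exists_ext hM (N.subgroupOf P) (hcover P hNP hndvd)
        (mem_principal_comp (Subgroup.subgroupOfEquivOfLe hNP) hB)
      exact ⟨(ξ : P → ℂ), ξ.2, fun n => congrFun hres ⟨⟨n, hNP n.2⟩, n.2⟩⟩
  -- the canonical extension on regular elements
  obtain ⟨χ, hχN, hloc⟩ :=
    (S4937.Data.exists_char (ψ := ⟨ψ, hψi⟩) ⟨hcover, hB, hψ⟩ hM :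
      ∃ χ : IrrCharacter G, (∀ n : N, (χ : G → ℂ) n = (θ : N → ℂ) n) ∧ ∀ v : G, ¬ p ∣ orderOf v →
        ∃ ξ ∈ principalBlock M (N ⊔ Subgroup.zpowers v : Subgroup G),
          ∀ y, (ξ : (N ⊔ Subgroup.zpowers v : Subgroup G) → ℂ) y = (χ : G → ℂ) y)
  -- numbers
  obtain ⟨v, m, hG, hpm⟩ : ∃ v m : ℕ, Nat.card G = p ^ v * m ∧ ¬ p ∣ m :=
    ⟨_, _, (Nat.ordProj_mul_ordCompl_eq_self (Nat.card G) p).symm,
      Nat.not_dvd_ordCompl hp' Nat.card_pos.ne'⟩
  haveI : NeZero (p ^ v) := ⟨pow_ne_zero v hp'.ne_zero⟩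
  have hcop : (p ^ v).Coprime m := (hp'.coprime_iff_not_dvd.2 hpm).pow_left v
  have hregm : ∀ g : G, ¬ p ∣ orderOf g → g ^ m = 1 := fun g hg => by
    refine orderOf_dvd_iff_pow_eq_one.1 ?_
    exact ((hp'.coprime_iff_not_dvd.2 hg).symm.pow_right v).dvd_of_dvd_mul_left
      (hG ▸ orderOf_dvd_natCard g)
  set d := charDegree (θ : N → ℂ) with hd
  have hd1 : ∀ {f : G → ℂ}, (∀ n : N, f n = (θ : N → ℂ) n) → f 1 = (d : ℂ) := fun {f} hf => by
    have := hf 1
    rw [OneMemClass.coe_one] at this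
    rw [this]
    exact BlkChar.isCharacter_one_eq_charDegree (Char.isCharacter_of_irr θ.2)
  have hdp : d.Coprime (p ^ v) := ((hp'.coprime_iff_not_dvd.2 hdeg).symm).pow_right v
  -- normalisation of the determinant
  have hl := CharExt.detChar_isLin (χ : G → ℂ)
  obtain ⟨δ, hδdef⟩ : ∃ δ : G →* ℂˣ, δ = hl.toHom := ⟨_, rfl⟩
  have hδ : ∀ g, (δ g : ℂ) = detChar (χ : G → ℂ) g := fun g => by rw [hδdef]; exact hl.toHom_apply g
  obtain ⟨e, he1, he0⟩ := Nat.chineseRemainder hcop 1 0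
  obtain ⟨c, hc⟩ : ∃ c : ℕ, p ^ v ∣ e * c * d + 1 := by
    refine ⟨(-(d : ZMod (p ^ v))⁻¹).val, (ZMod.natCast_eq_zero_iff _ _).1 ?_⟩
    have he : (e : ZMod (p ^ v)) = ((1 : ℕ) : ZMod (p ^ v)) :=
      (ZMod.natCast_eq_natCast_iff _ _ _).2 he1
    push_cast [ZMod.natCast_val, ZMod.cast_id] at he ⊢
    rw [he, one_mul, neg_mul, mul_comm, ZMod.coe_mul_inv_eq_one d hdp, neg_add_cancel]
  set lam : G →* ℂˣ :=
    { toFun := fun g => δ g ^ (e * c)
      map_one' := by simp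
      map_mul' := fun x y => by rw [map_mul, mul_pow] } with hlam
  have hlamv : ∀ g, lam g = δ g ^ (e * c) := fun g => rfl
  obtain ⟨e', he'⟩ : m ∣ e := Nat.modEq_zero_iff_dvd.1 he0
  have hlamN : ∀ n : N, lam n = 1 := by
    intro n
    have hlt := CharExt.detChar_isLin (θ : N → ℂ)
    have hnd := not_dvd_detOrder hp' hp2 (Char.isCharacter_of_irr θ.2) hpr hval
    have hord : detOrder (θ : N → ℂ) ∣ Nat.card G := by
      rw [detOrder, hlt.orderOf_eq]
      refine (orderOf_dvd_of_pow_eq_one (MonoidHom.ext fun x => ?_)).trans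
        (Subgroup.card_subgroup_dvd_card N)
      rw [MonoidHom.pow_apply, ← map_pow, pow_card_eq_one', map_one, MonoidHom.one_apply]
    have hdm : detOrder (θ : N → ℂ) ∣ m :=
      ((hp'.coprime_iff_not_dvd.2 hnd).symm.pow_right v).dvd_of_dvd_mul_left (hG ▸ hord)
    have h1 := congrFun (orderOf_dvd_iff_pow_eq_one.1 hdm) n
    rw [Pi.pow_apply, Pi.one_apply, ← CharExt.detChar_restrict N (Char.isCharacter_of_irr χ.2) hχN n,
      ← hδ, ← Units.val_pow_eq_pow_val, Units.val_eq_one] at h1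
    rw [hlamv, he', mul_assoc, pow_mul, h1, one_pow]
  have hlamreg : ∀ g : G, ¬ p ∣ orderOf g → lam g = 1 := fun g hg => by
    rw [hlamv, he', mul_assoc, pow_mul, ← map_pow, hregm g hg, map_one, one_pow]
  obtain ⟨χ₁, hχ₁⟩ : ∃ χ₁ : IrrCharacter G, ∀ g, (χ₁ : G → ℂ) g = (lam g : ℂ) * (χ : G → ℂ) g :=
    ⟨⟨_, Char.isIrrCharacter_mul_monoidHom χ.2 lam⟩, fun g => rfl⟩
  have hχ₁N : ∀ n : N, (χ₁ : G → ℂ) n = (θ : N → ℂ) n := fun n => by
    rw [hχ₁, hlamN, Units.val_one, one_mul, hχN]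
  have hloc₁ : ∀ g : G, ¬ p ∣ orderOf g →
      ∃ ξ ∈ principalBlock M (N ⊔ Subgroup.zpowers g : Subgroup G),
        ∀ y, (ξ : (N ⊔ Subgroup.zpowers g : Subgroup G) → ℂ) y = (χ₁ : G → ℂ) y := by
    intro g hg
    obtain ⟨ξ, hξ, hξχ⟩ := hloc g hg
    refine ⟨ξ, hξ, fun y => ?_⟩
    have hk : N ⊔ Subgroup.zpowers g ≤ lam.ker :=
      sup_le (fun n hn => hlamN ⟨n, hn⟩) (Subgroup.zpowers_le.2 (hlamreg g hg))
    rw [hχ₁, MonoidHom.mem_ker.1 (hk y.2), Units.val_one, one_mul, hξχ]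
  have hdet : ∀ g, detChar (χ₁ : G → ℂ) g ^ m = 1 := fun g => by
    rw [show (χ₁ : G → ℂ) = fun g => (lam g : ℂ) * (χ : G → ℂ) g from funext hχ₁,
      detChar_mul (Char.isCharacter_of_irr χ.2) (hd1 hχN), hlamv, ← hδ, ← Units.val_pow_eq_pow_val,
      ← Units.val_mul, ← Units.val_pow_eq_pow_val, ← pow_mul, ← pow_succ, ← pow_mul,
      Units.val_eq_one]
    obtain ⟨t, ht⟩ := hc
    rw [ht, show p ^ v * t * m = Nat.card G * t by rw [hG]; ring, pow_mul, ← map_pow,
      pow_card_eq_one', map_one, one_pow]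
  refine ⟨χ₁, S4937.mem_principal_of_local hM N χ₁ hloc₁, ⟨m, hpm, ?_⟩, hχ₁N⟩
  refine mem_adjoin_of_fixed hp' (Char.isCharacter_of_irr χ₁.2) hG hpm fun j hjc hj1 g => ?_
  -- invariance under the powers
  obtain ⟨χ₂, hχ₂⟩ : ∃ χ₂ : IrrCharacter G, ∀ g, (χ₂ : G → ℂ) g = (χ₁ : G → ℂ) (g ^ j) :=
    ⟨⟨_, OddChar.irr_twist χ₁.2 hjc⟩, fun g => rfl⟩
  have hjp : j.Coprime (p ^ v) := Nat.Coprime.coprime_dvd_right (hG ▸ dvd_mul_right _ _) hjc
  have hχ₂N : ∀ n : N, (χ₂ : G → ℂ) n = (θ : N → ℂ) n := fun n => by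
    rw [hχ₂, ← Subgroup.coe_pow, hχ₁N]
    exact pow_eq_of_rational hp' (Char.isCharacter_of_irr θ.2) hpr hval
      ((Subgroup.card_subgroup_dvd_card N).trans (dvd_of_eq hG)) hpm hjp hj1 n
  have hres : IsIrrCharacter N (fun n : N => (χ₁ : G → ℂ) n) := by
    rw [show (fun n : N => (χ₁ : G → ℂ) n) = (θ : N → ℂ) from funext hχ₁N]; exact θ.2
  obtain ⟨β, hβ, hβinv, hfac⟩ := CharDeep.exists_factor N χ₁.2 hres χ₂.2 (by
    rw [show (fun n : N => (χ₂ : G → ℂ) n) = (θ : N → ℂ) from funext hχ₂N,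
      show (fun n : N => (χ₁ : G → ℂ) n) = (θ : N → ℂ) from funext hχ₁N,
      CharInd.classInner_irr_self θ.2]
    exact one_ne_zero)
  have hβ1 : β 1 = 1 := by
    have h1 := congrFun hfac 1
    rw [Pi.mul_apply, hd1 hχ₂N, hd1 hχ₁N] at h1
    have hd0 : (d : ℂ) ≠ 0 := Nat.cast_ne_zero.2 (by rintro h; exact hdeg (h ▸ dvd_zero p))
    exact mul_right_cancel₀ hd0 (h1.symm.trans (one_mul _).symm)
  obtain ⟨f, hf⟩ := Char.exists_monoidHom_of_degree_one (Char.isCharacter_of_irr hβ) hβ1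
  have hfeq : ∀ g, (χ₂ : G → ℂ) g = (f g : ℂ) * (χ₁ : G → ℂ) g := fun g => by
    rw [congrFun hfac g, Pi.mul_apply, hf]
  have hfN : ∀ n : N, f n = 1 := fun n => Units.ext (by
    have := hβinv n 1
    rw [mul_one, hβ1, hf] at this
    rw [this, Units.val_one])
  -- trivial on regular elements
  have hfreg : ∀ w : G, ¬ p ∣ orderOf w → f w = 1 := by
    intro w hw
    obtain ⟨ξ, hξ, hξχ⟩ := hloc₁ w hw
    obtain ⟨L, hL⟩ : ∃ L, L = N ⊔ Subgroup.zpowers w := ⟨_, rfl⟩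
    have hidx : ¬ p ∣ N.relIndex (N ⊔ Subgroup.zpowers w) := fun hd =>
      hw (hd.trans (S4937.relIndex_sup_zpowers w))
    have hcov := hcover _ le_sup_left hidx
    haveI := Fintype.ofFinite ↥(N ⊔ Subgroup.zpowers w)
    haveI := Fintype.ofFinite (N.subgroupOf (N ⊔ Subgroup.zpowers w))
    have hjL : j.Coprime (Nat.card ↥(N ⊔ Subgroup.zpowers w)) :=
      Nat.Coprime.coprime_dvd_right (Subgroup.card_subgroup_dvd_card _) hjc
    have hn := normed_of_mem hM hξ
    have hn2 : Normed p M (fun y : ↥(N ⊔ Subgroup.zpowers w) =>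
        (ξ : ↥(N ⊔ Subgroup.zpowers w) → ℂ) (y ^ j)) := by
      intro y hy
      have := hn (y ^ j) (by
        rwa [centralizer_pow_eq (Nat.Coprime.coprime_dvd_right (orderOf_dvd_natCard y) hjL)])
      simpa only [one_pow] using this
    have hresξ : (fun n : N.subgroupOf (N ⊔ Subgroup.zpowers w) =>
        (ξ : ↥(N ⊔ Subgroup.zpowers w) → ℂ) n) =
        fun n => (θ : N → ℂ) (Subgroup.subgroupOfEquivOfLe le_sup_left n) := funext fun n => by
      rw [hξχ]
      exact hχ₁N ⟨_, n.2⟩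
    have hresi : IsIrrCharacter (N.subgroupOf (N ⊔ Subgroup.zpowers w)) (fun n =>
        (ξ : ↥(N ⊔ Subgroup.zpowers w) → ℂ) n) := by
      rw [hresξ]
      exact Char.isIrrCharacter_comp_mulEquiv θ.2 _
    have heq := eq_of_restrict_eq hM hcov ξ.2 (OddChar.irr_twist ξ.2 hjL) hn hn2 hresi (by
      rw [show (fun n : N.subgroupOf (N ⊔ Subgroup.zpowers w) =>
          (ξ : ↥(N ⊔ Subgroup.zpowers w) → ℂ) ((n : ↥(N ⊔ Subgroup.zpowers w)) ^ j)) =
          fun n : N.subgroupOf (N ⊔ Subgroup.zpowers w) =>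
            (ξ : ↥(N ⊔ Subgroup.zpowers w) → ℂ) n from funext fun n => by
          rw [hξχ, hξχ, Subgroup.coe_pow, ← hχ₂]
          exact (hχ₂N ⟨_, n.2⟩).trans (hχ₁N ⟨_, n.2⟩).symm,
        CharInd.classInner_irr_self hresi]
      exact one_ne_zero)
    have hc := S4937.cancel hM hcov hξ (f.comp (N ⊔ Subgroup.zpowers w).subtype) 1
      (fun n hn => hfN ⟨_, hn⟩) (fun n _ => rfl) fun y => by
        have h1 : (ξ : ↥(N ⊔ Subgroup.zpowers w) → ℂ) (y ^ j) = (ξ : ↥(N ⊔ Subgroup.zpowers w) → ℂ) y :=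
          congrFun heq y
        rw [hξχ, hξχ, Subgroup.coe_pow, ← hχ₂, hfeq] at h1
        rw [MonoidHom.one_apply, Units.val_one, one_mul, hξχ]
        exact h1
    exact DFunLike.congr_fun hc ⟨w, Subgroup.mem_sup_right (Subgroup.mem_zpowers w)⟩
  have hfd : ∀ g, f g ^ d = 1 := fun g => by
    have h1 : detChar (χ₂ : G → ℂ) g = detChar (χ₁ : G → ℂ) g := by
      rw [LinearBound.detChar_twist (Char.isCharacter_of_irr χ₁.2) (Char.isCharacter_of_irr χ₂.2)
        j hχ₂, pow_eq_pow_mod j (hdet g), show j % m = 1 % m from hj1,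
        ← pow_eq_pow_mod 1 (hdet g), pow_one]
    rw [show (χ₂ : G → ℂ) = fun g => (f g : ℂ) * (χ₁ : G → ℂ) g from funext hfeq,
      detChar_mul (Char.isCharacter_of_irr χ₁.2) (hd1 hχ₁N)] at h1
    have hne : detChar (χ₁ : G → ℂ) g ≠ 0 := fun h0 => by
      have := hdet g
      rw [h0, zero_pow (by rintro rfl; exact hpm (dvd_zero p))] at this
      exact zero_ne_one this
    apply Units.ext
    rw [Units.val_pow_eq_pow_val, Units.val_one]
    exact mul_right_cancel₀ hne (h1.trans (one_mul _).symm)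
  have hf1 : f g = 1 := by
    have h2 : f g ^ p ^ v = 1 := by
      rw [← map_pow]
      refine hfreg _ fun hd => hpm (hd.trans (orderOf_dvd_of_pow_eq_one ?_))
      rw [← pow_mul, ← hG, pow_card_eq_one']
    have := (pow_gcd_eq_one (m := d) (n := p ^ v)).2 ⟨hfd g, h2⟩
    rwa [show Nat.gcd d (p ^ v) = 1 from hdp, pow_one] at this
  rw [← hχ₂, hfeq, hf1, Units.val_one, one_mul]

end Cfsg.Agent.PRatExt
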